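import Cfsg.Agent.Wr3.D8

/-! Standard subgroup `M₁₂`, additive doubling: the facts used on `Y₀ = M₁₂` and `Y = Aut M₁₂`.
`τ i j` are the transpositions of a subgroup `S₆`, `γ` induces its outer automorphism; `z = τ 4 5`,
`z, d, z d` is a line and `E = ⟨z, d, x⟩` is the normal `2³` of `C(z)`. -/

set_option autoImplicit false

namespace Cfsg.Agent.M2R

open Cfsg.Agent.Wr

variable {Y : Type*} [Group Y]

/-- a subgroup `S₆` through the flag `z, d, x` -/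
structure Cf (N : Subgroup Y) (z d x γ : Y) (τ : Fin 6 → Fin 6 → Y) : Prop where
  mem : ∀ i j, τ i j ∈ N
  γN : γ ∈ N
  sym : ∀ i j, τ i j = τ j i
  sq : ∀ i j, i ≠ j → τ i j * τ i j = 1
  cj : ∀ i j k l, i ≠ j → k ≠ l → τ i j * τ k l * (τ i j)⁻¹ = τ (Equiv.swap i j k) (Equiv.swap i j l)
  ez : τ 4 5 = z
  ed : τ 0 1 * τ 2 3 = d
  ex : τ 0 2 * τ 1 3 = x
  γ1 : γ * τ 0 1 * γ⁻¹ = x
  γ2 : γ * x * γ⁻¹ = τ 0 1
  γ3 : γ * z * γ⁻¹ = z * d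
  γ4 : γ * d * γ⁻¹ = d
  cd : ∃ r ∈ N, r * z * r⁻¹ = d
  z1 : z ≠ 1
  d1 : d ≠ 1
  dz : d ≠ z
  ne : τ 1 3 * τ 1 5 * τ 0 5 * τ 0 3 ≠ τ 1 5 * τ 1 3 * τ 0 3 * τ 0 5
  cT : ∀ y, y * τ 0 1 = τ 0 1 * y → y * τ 2 3 = τ 2 3 * y → y * z = z * y → y * x = x * y →
    y = 1 ∨ y = z ∨ y = d ∨ y = z * d

/-- `Q = ⟨q₁, q₂, d, x⟩ = O₂(C(z))` -/
structure Fq (N : Subgroup Y) (z d x q₁ q₂ : Y) : Prop where
  m1 : q₁ ∈ N
  m2 : q₂ ∈ N
  z1 : q₁ * z * q₁⁻¹ = z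
  d1 : q₁ * d * q₁⁻¹ = z * d
  x1 : q₁ * x * q₁⁻¹ = x
  z2 : q₂ * z * q₂⁻¹ = z
  d2 : q₂ * d * q₂⁻¹ = d
  x2 : q₂ * x * q₂⁻¹ = z * x
  cQ : ∀ y, y * q₁ = q₁ * y → y * q₂ = q₂ * y → y * d = d * y → y * x = x * y → y = 1 ∨ y = z

/-- `(a, b)` is conjugate to `(a₀, b₀)` -/
def Pr (N : Subgroup Y) (a₀ b₀ a b : Y) : Prop := ∃ k ∈ N, k * a₀ * k⁻¹ = a ∧ k * b₀ * k⁻¹ = b

/-- the four types of pairs at distance at most three -/
def Pr4 (N : Subgroup Y) (z d x e a b : Y) : Prop :=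
  Pr N z d a b ∨ Pr N d x a b ∨ Pr N e x a b ∨ Pr N (e * z) x a b

/-- the generating set -/
structure Dl (N : Subgroup Y) (z d x e : Y) (Δ : Set Y) : Prop where
  gen : N ≤ Subgroup.closure Δ
  cl : ∀ a ∈ Δ, ∃ k ∈ N, k * z * k⁻¹ = a
  pr : ∀ a ∈ Δ, ∀ b ∈ Δ, a = b ∨ Pr4 N z d x e a b ∨ Pr4 N z d x e b a

/-- everything that has to be certified, for the line `z, d, z d` -/
def All (N : Subgroup Y) (z d : Y) : Prop :=
  ∃ x γ γ' q₁ q₂ τ τ' Δ, Cf N z d x γ τ ∧ Cf N z d x γ' τ' ∧ τ' 0 1 = τ 0 1 * z ∧ τ' 1 2 = τ 1 2 * z ∧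
    Fq N z d x q₁ q₂ ∧ Dl N z d x (τ 0 1) Δ

variable {M G : Type*} [Group M] [Group G]

/-- the lifts on `E`: additive (`n = 0`) or twisted by `z` (`n = 1`) -/
structure Pn (ι : M →* G) (f : M → G) (z d x : M) (n : ℕ) : Prop where
  le : n = 0 ∨ n = 1
  hl : f (z * d) = f z * f d
  add : f d * f x = f (d * x) * ι z ^ n
  com : f d * f x = f x * f d

/-- the relations between the lifts `a i j = f (τ i j)` of the transpositions -/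
structure Sx (f : M → G) (τ : Fin 6 → Fin 6 → M) : Prop where
  com : ∀ i j k l, i ≠ j → k ≠ l → i ≠ k → i ≠ l → j ≠ k → j ≠ l → f (τ i j) * f (τ k l) = f (τ k l) * f (τ i j)
  four : f (τ 0 1) * f (τ 2 3) * (f (τ 0 2) * f (τ 1 3)) = f (τ 0 3) * f (τ 1 2)

section
variable {ι : M →* G} {t : G} {f : M → G} {N : Subgroup M} {z d x γ : M} {τ : Fin 6 → Fin 6 → M}

theorem Cf.cl (F : Cf N z d x γ τ) {i j : Fin 6} (hij : i ≠ j) : Cl z (τ i j) := by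
  have k : ∀ a b c e, a ≠ b → c ≠ e → Cl z (τ c e) → Cl z (τ (Equiv.swap a b c) (Equiv.swap a b e)) :=
    fun a b c e h1 h2 h => F.cj a b c e h1 h2 ▸ h.conj _
  have h45 : Cl z (τ 4 5) := F.ez ▸ cl_self _
  have h4 : ∀ j, j ≠ 4 → Cl z (τ 4 j) := fun j hj => by
    by_cases e : j = 5
    · exact e ▸ h45
    · have := k j 5 4 5 e (by decide) h45
      rwa [Equiv.swap_apply_right, Equiv.swap_apply_of_ne_of_ne (Ne.symm hj) (by decide)] at this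
  by_cases e : i = 4
  · exact e ▸ h4 j (e ▸ hij.symm)
  by_cases e' : j = 4
  · exact F.sym j i ▸ e' ▸ h4 i e
  have := k i 4 4 j e (Ne.symm e') (h4 j e')
  rwa [Equiv.swap_apply_right, Equiv.swap_apply_of_ne_of_ne hij.symm e'] at this

theorem Cf.cld (F : Cf N z d x γ τ) : Cl z d := by
  obtain ⟨r, -, e⟩ := F.cd
  exact cl_of_conj e

theorem Cf.clzd (F : Cf N z d x γ τ) : Cl z (z * d) := cl_of_conj F.γ3

theorem Cf.clx (F : Cf N z d x γ τ) : Cl z x := F.γ1 ▸ (F.cl (by decide)).conj γ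

theorem Cf.inv (F : Cf N z d x γ τ) {i j : Fin 6} (hij : i ≠ j) : (τ i j)⁻¹ = τ i j :=
  inv_eq_of_mul_eq_one_right (F.sq i j hij)

/-- moving a transposition past a transposition; the side goals are closed by `decide` -/
theorem Cf.tt (F : Cf N z d x γ τ) (i j k l k' l' : Fin 6)
    (e : i ≠ j ∧ k ≠ l ∧ (Equiv.swap i j k = k' ∧ Equiv.swap i j l = l' ∨
      Equiv.swap i j k = l' ∧ Equiv.swap i j l = k') := by decide) :
    τ i j * τ k l * (τ i j)⁻¹ = τ k' l' := by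
  obtain ⟨a, b, ⟨rfl, rfl⟩ | ⟨rfl, rfl⟩⟩ := e
  · exact F.cj i j k l a b
  · exact (F.cj i j k l a b).trans (F.sym _ _)

/-- moving `ι (τ i j)` past a lift -/
theorem Cf.mv (F : Cf N z d x γ τ) (h : Dbl ι t z f) (i j k l k' l' : Fin 6)
    (e : i ≠ j ∧ k ≠ l ∧ (Equiv.swap i j k = k' ∧ Equiv.swap i j l = l' ∨
      Equiv.swap i j k = l' ∧ Equiv.swap i j l = k') := by decide) :
    ι (τ i j) * f (τ k l) * (ι (τ i j))⁻¹ = f (τ k' l') := by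
  rw [← h.eqv _ _ (F.cl e.2.1), F.tt i j k l k' l' e]

/-- the same as a rewriting rule -/
theorem Cf.mw (F : Cf N z d x γ τ) (h : Dbl ι t z f) (i j k l k' l' : Fin 6)
    (e : i ≠ j ∧ k ≠ l ∧ (Equiv.swap i j k = k' ∧ Equiv.swap i j l = l' ∨
      Equiv.swap i j k = l' ∧ Equiv.swap i j l = k') := by decide) (w : G) :
    ι (τ i j) * (f (τ k l) * w) = f (τ k' l') * (ι (τ i j) * w) := by
  rw [← F.mv h i j k l k' l' e]; group

end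

end Cfsg.Agent.M2R
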