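import Cfsg.Agent.M2R.R1

/-! Standard subgroup `M₁₂`, additive doubling: the pairs at distance three. -/

set_option autoImplicit false
set_option linter.unusedSectionVars false
set_option linter.unusedVariables false

namespace Cfsg.Agent.M2R

open Subgroup Cfsg.Agent.Wr

variable {M G : Type*} [Group M] [Group G] {ι : M →* G} {t : G} {f : M → G} {N : Subgroup M}
  {z d x γ : M} {τ : Fin 6 → Fin 6 → M}

theorem kk_m (g u v : G) : g * (u * v) * g⁻¹ = g * u * g⁻¹ * (g * v * g⁻¹) := by group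

theorem kk_cj (g a w n : G) : g * (a * w * (a * w) * n) * g⁻¹ =
    g * a * g⁻¹ * (g * w * g⁻¹) * (g * a * g⁻¹ * (g * w * g⁻¹)) * (g * n * g⁻¹) := by group

theorem kk_2 (u v : M) (y : G) : ι (u * v) * y * (ι (u * v))⁻¹ = ι u * (ι v * y * (ι v)⁻¹) * (ι u)⁻¹ := by
  rw [map_mul]; group

theorem kk_r {u v y : G} (e : u * v = y) (s : G) : u * (v * s) = y * s := by rw [← mul_assoc, e]

theorem kk_n {a w n : G} (nn : n * n = 1) (na : n * a = a * n) (nw : n * w = w * n) :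
    a * (n * w) * (a * (n * w)) = a * w * (a * w) := by
  simp only [mul_assoc, kk_r na, kk_r nw, nw, nn, mul_one]

theorem kk_t {a w n e X D : G} (nn : n * n = 1) (na : n * a = a * n) (nw : n * w = w * n)
    (ea : e * a = a * e) (en : e * n = n * e) (ew : e * w = n * w * e) (Xa : X * a = a * n * X)
    (Xn : X * n = n * X) (Xw : X * w = w * X) (eX : e * (X * (e * (X * D))) = 1) :
    a * e * (w * X) * (a * e * (w * X)) * (n * D) = a * w * (a * w) * n := by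
  simp only [mul_assoc, kk_r nn, kk_r na, kk_r nw, kk_r ea, kk_r en, kk_r ew, kk_r Xa, kk_r Xn, kk_r Xw, eX,
    one_mul, mul_one]

theorem kk_1 {a w n Z X : G} (nw : n * w = w * n) (Za : Z * a = a * Z) (Zn : Z * n = n * Z) (Zw : Z * w = w * Z)
    (Xa : X * a = a * n * X) (Xw : X * w = w * X) (ZX : Z * (X * (Z * X)) = 1) :
    a * (w * (Z * X)) * (a * (w * (Z * X))) = a * w * (a * w) * n := by
  simp only [mul_assoc, kk_r nw, kk_r Za, kk_r Zn, kk_r Zw, kk_r Xa, kk_r Xw, ZX, mul_one]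

/-- Put `a = a 0 1`, `n₀ = a 0 1 * a 2 3`, `w = a 0 2 * a 1 3`, `k = (a w)² n₀`. By `S = sx h F P`: `n₀`, `w` are commuting
involutions with `n₀ w = a 0 3 * a 1 2` (`S.four`, its square is 1), `n₀` commutes with `a`. `ι (τ 0 1)` and `ι (τ 2 3)` fix `a`, `n₀` and send `w` to
`a 1 2 * a 0 3 = n₀ w`; `ι x` fixes `w`, `n₀` and sends `a` to `a 2 3 = a n₀`; `ι z` fixes everything. So all four commute with `k`.
`t a t = a ι(τ 0 1)`, `t w t = w ι x`, `t n₀ t = n₀ ι d` (`h.tft`), `(a ι(τ 0 1) w ι x)² = (a w)² ι d`, so `t` commutes with `k`.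
`h.cen` with `F.cT`: `k = ι v` or `ι v * t`, `v ∈ {1, z, d, z d}`, so `k² = 1`; `a k a = k⁻¹ = k` excludes `ι v * t` (`h.fft`
gives `τ 0 1 = 1`, but `γ (τ 0 1) γ⁻¹ = x`, and `τ 0 1 = 1` gives `τ 4 5 = 1` by conjugation). Finally `γ` swaps `a` and `f x`
and fixes `f d`. For `n = 0`: `w = f x`, `n₀ = f d`, `k = (a * f x)² * f d`; for `n = 1`: `f x = w ι (z x)` and `k = (a * f x)²`.
In both cases `ι γ k (ι γ)⁻¹ = k⁻¹ = k`, so `γ v γ⁻¹ = v`, and `γ` swaps `z`, `z d`. -/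
theorem kk (h : Dbl ι t z f) (F : Cf N z d x γ τ) {n : ℕ} (P : Pn ι f z d x n) :
    f (τ 0 2) * f (τ 1 3) * f (τ 0 1) * (f (τ 1 3) * f (τ 0 2)) = f (τ 2 3) ∨
      f (τ 0 2) * f (τ 1 3) * f (τ 0 1) * (f (τ 1 3) * f (τ 0 2)) = f (τ 2 3) * ι d := by
  have S := sx h F P
  have c01 : Cl z (τ 0 1) := F.cl (by decide)
  have c23 : Cl z (τ 2 3) := F.cl (by decide)
  have c02 : Cl z (τ 0 2) := F.cl (by decide)
  have c13 : Cl z (τ 1 3) := F.cl (by decide)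
  have aa := h.ff c01
  have bb := h.ff c23
  have pp := h.ff c02
  have qq := h.ff c13
  have ab := S.com 0 1 2 3 (by decide) (by decide) (by decide) (by decide) (by decide) (by decide)
  have pq := S.com 0 2 1 3 (by decide) (by decide) (by decide) (by decide) (by decide) (by decide)
  have rs := S.com 0 3 1 2 (by decide) (by decide) (by decide) (by decide) (by decide) (by decide)
  have four := S.four
  have sq2 : ∀ {u v : G}, u * u = 1 → v * v = 1 → u * v = v * u → u * v * (u * v) = 1 := fun {u v} h1 h2 h3 => by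
    rw [mul_assoc, ← mul_assoc v, ← h3, mul_assoc, h2, mul_one, h1]
  have nn := sq2 aa bb ab
  have ww := sq2 pp qq pq
  have nw := D8.cm nn ww (by rw [four]; exact sq2 (h.ff (F.cl (by decide))) (h.ff (F.cl (by decide))) rs)
  have na : f (τ 0 1) * f (τ 2 3) * f (τ 0 1) = f (τ 0 1) * (f (τ 0 1) * f (τ 2 3)) := by rw [mul_assoc, ab]
  have an : f (τ 0 1) * (f (τ 0 1) * f (τ 2 3)) = f (τ 2 3) := by rw [← mul_assoc, aa, one_mul]
  have m1 : τ 0 1 * τ 2 3 = τ 2 3 * τ 0 1 := conj_eq_iff.1 (F.tt 0 1 2 3 2 3)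
  have m2 : τ 0 2 * τ 1 3 = τ 1 3 * τ 0 2 := conj_eq_iff.1 (F.tt 0 2 1 3 1 3)
  have xx := h.sq F.clx
  have dd := h.sq F.cld
  have dx : τ 0 1 * x * (τ 0 1 * x) = d := by
    have k1 := mul_inv_eq_iff_eq_mul.1 (F.tt 0 1 0 2 1 2)
    have k2 := mul_inv_eq_iff_eq_mul.1 (F.tt 1 2 0 1 0 2)
    have k3 := mul_inv_eq_iff_eq_mul.1 (F.tt 1 3 0 1 0 3)
    have k4 := mul_inv_eq_iff_eq_mul.1 (F.tt 0 2 0 3 2 3)
    calc τ 0 1 * x * (τ 0 1 * x) = τ 0 1 * (τ 0 2 * (τ 1 3 * τ 0 1)) * x := by rw [← F.ex]; group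
      _ = τ 0 1 * τ 2 3 * (τ 0 2 * τ 1 3 * x) := by rw [k3, ← mul_assoc (τ 0 2), k4]; group
      _ = d := by rw [F.ex, xx, mul_one, F.ed]
  have ea := F.mv h 0 1 0 1 0 1
  have en : ι (τ 0 1) * (f (τ 0 1) * f (τ 2 3)) * (ι (τ 0 1))⁻¹ = f (τ 0 1) * f (τ 2 3) := by
    rw [kk_m, ea, F.mv h 0 1 2 3 2 3]
  have ew : ι (τ 0 1) * (f (τ 0 2) * f (τ 1 3)) * (ι (τ 0 1))⁻¹ =
      f (τ 0 1) * f (τ 2 3) * (f (τ 0 2) * f (τ 1 3)) := by
    rw [kk_m, F.mv h 0 1 0 2 1 2, F.mv h 0 1 1 3 0 3, four, rs]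
  have ea' := F.mv h 2 3 0 1 0 1
  have en' : ι (τ 2 3) * (f (τ 0 1) * f (τ 2 3)) * (ι (τ 2 3))⁻¹ = f (τ 0 1) * f (τ 2 3) := by
    rw [kk_m, ea', F.mv h 2 3 2 3 2 3]
  have ew' : ι (τ 2 3) * (f (τ 0 2) * f (τ 1 3)) * (ι (τ 2 3))⁻¹ =
      f (τ 0 1) * f (τ 2 3) * (f (τ 0 2) * f (τ 1 3)) := by
    rw [kk_m, F.mv h 2 3 0 2 0 3, F.mv h 2 3 1 3 1 2, four]
  have Xa : ι x * f (τ 0 1) * (ι x)⁻¹ = f (τ 0 1) * (f (τ 0 1) * f (τ 2 3)) := by
    rw [← F.ex, kk_2, F.mv h 1 3 0 1 0 3, F.mv h 0 2 0 3 2 3, an]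
  have Xn : ι x * (f (τ 0 1) * f (τ 2 3)) * (ι x)⁻¹ = f (τ 0 1) * f (τ 2 3) := by
    rw [kk_m, Xa, an, ← F.ex, kk_2, F.mv h 1 3 2 3 1 2, F.mv h 0 2 1 2 0 1, ab]
  have Xw : ι x * (f (τ 0 2) * f (τ 1 3)) * (ι x)⁻¹ = f (τ 0 2) * f (τ 1 3) := by
    rw [kk_m, ← F.ex, kk_2, kk_2, F.mv h 1 3 0 2 0 2, F.mv h 0 2 0 2 0 2, F.mv h 1 3 1 3 1 3, F.mv h 0 2 1 3 1 3]
  have Za : ι z * f (τ 0 1) * (ι z)⁻¹ = f (τ 0 1) := by
    have := F.mv h 4 5 0 1 0 1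
    rwa [F.ez] at this
  have Zn : ι z * (f (τ 0 1) * f (τ 2 3)) * (ι z)⁻¹ = f (τ 0 1) * f (τ 2 3) := by
    have := F.mv h 4 5 2 3 2 3
    rw [F.ez] at this
    rw [kk_m, Za, this]
  have Zw : ι z * (f (τ 0 2) * f (τ 1 3)) * (ι z)⁻¹ = f (τ 0 2) * f (τ 1 3) := by
    have k1 := F.mv h 4 5 0 2 0 2
    have k2 := F.mv h 4 5 1 3 1 3
    rw [F.ez] at k1 k2
    rw [kk_m, k1, k2]
  have zx : z * x = x * z := by
    have k1 := conj_eq_iff.1 (F.tt 4 5 0 2 0 2)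
    have k2 := conj_eq_iff.1 (F.tt 4 5 1 3 1 3)
    rw [F.ez] at k1 k2
    rw [← F.ex, ← mul_assoc, k1, mul_assoc, k2, mul_assoc]
  have ti := inv_eq_of_sq h.tt
  have ta : t * f (τ 0 1) * t⁻¹ = f (τ 0 1) * ι (τ 0 1) := by rw [ti, h.tft c01]
  have tn : t * (f (τ 0 1) * f (τ 2 3)) * t⁻¹ = f (τ 0 1) * f (τ 2 3) * ι d := by
    rw [kk_m, ti, h.tft c01, h.tft c23, mul_assoc, ← mul_assoc (ι _), h.cf c23 m1, ← F.ed, map_mul]; group
  have tw : t * (f (τ 0 2) * f (τ 1 3)) * t⁻¹ = f (τ 0 2) * f (τ 1 3) * ι x := by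
    rw [kk_m, ti, h.tft c02, h.tft c13, mul_assoc, ← mul_assoc (ι _), h.cf c13 m2, ← F.ex, map_mul]; group
  have Da : ι d * f (τ 0 1) = f (τ 0 1) * ι d := h.cf c01 (by rw [← F.ed, mul_assoc, ← m1])
  have Db : ι d * f (τ 2 3) = f (τ 2 3) * ι d := h.cf c23 (by rw [← F.ed, ← mul_assoc, ← m1])
  have g1 := h.eqv γ _ c01
  have g2 := h.eqv γ _ F.clx
  have g4 := h.eqv γ _ F.cld
  rw [F.γ1] at g1
  rw [F.γ2] at g2
  rw [F.γ4] at g4
  have fd' := (fd h F P).1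
  have fx' := fx h F P
  have yy := h.ff F.clx
  have cfa := fun v => h.cf (a := v) c01
  have fta := h.fft c01
  rw [← pq]
  generalize f (τ 0 2) * f (τ 1 3) = w at *
  generalize hn : f (τ 0 1) * f (τ 2 3) = n₀ at *
  generalize f (τ 0 1) = a at *
  generalize f (τ 2 3) = b at *
  have E1 : ∀ g, g * a * g⁻¹ = a → g * n₀ * g⁻¹ = n₀ → g * w * g⁻¹ = n₀ * w →
      g * (a * w * (a * w) * n₀) = a * w * (a * w) * n₀ * g := fun g k1 k2 k3 =>
    conj_eq_iff.1 (by rw [kk_cj, k1, k2, k3, kk_n nn na nw])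
  obtain ⟨v, ⟨hv, v1⟩, hk⟩ := h.cen (x := a * w * (a * w) * n₀) (conj_eq_iff.1 (by
      rw [kk_cj, ta, tn, tw]
      refine kk_t nn na nw (conj_eq_iff.1 ea) (conj_eq_iff.1 en) (mul_inv_eq_iff_eq_mul.1 ew)
        (mul_inv_eq_iff_eq_mul.1 Xa) (conj_eq_iff.1 Xn) (conj_eq_iff.1 Xw) ?_
      rw [← map_mul, ← map_mul, ← map_mul, ← map_mul, ← mul_assoc, ← mul_assoc (τ 0 1) x d, ← mul_assoc, dx, dd,
        map_one])).symm
    (P := fun c => c = τ 0 1 ∨ c = τ 2 3 ∨ c = z ∨ c = x)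
    (Q := fun u => (u = 1 ∨ u = z ∨ u = d ∨ u = z * d) ∧ u * τ 0 1 = τ 0 1 * u) (by
      rintro c (k | k | k | k) <;> rw [k]
      · exact E1 _ ea en ew
      · exact E1 _ ea' en' ew'
      · exact conj_eq_iff.1 (by rw [kk_cj, Za, Zn, Zw])
      · exact conj_eq_iff.1 (by rw [kk_cj, Xa, Xn, Xw, mul_assoc a n₀ w, kk_n nn na nw]))
    fun u hu => ⟨F.cT u (hu _ (.inl rfl)).symm (hu _ (.inr (.inl rfl))).symm (hu _ (.inr (.inr (.inl rfl)))).symm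
      (hu _ (.inr (.inr (.inr rfl)))).symm, (hu _ (.inl rfl)).symm⟩
  have vv : ι v * ι v = 1 := by
    rcases hv with k | k | k | k <;> rw [k]
    exacts [by simp, h.ιι (cl_self z), h.ιι F.cld, h.ιι F.clzd]
  have k2 : a * w * (a * w) * n₀ * (a * w * (a * w) * n₀) = 1 := by
    rcases hk with k | k <;> rw [k]
    · exact vv
    · exact sq2 vv h.tt (h.tA v).symm
  have ak : a * (a * w * (a * w) * n₀) * a = w * a * (w * a) * n₀ := by
    simp only [mul_assoc, kk_r aa, na, one_mul]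
  have ak' : a * (a * w * (a * w) * n₀) * a = a * w * (a * w) * n₀ := by
    rw [ak, eq_inv_of_mul_eq_one_left k2]
    refine eq_inv_of_mul_eq_one_left ?_
    simp only [mul_assoc, kk_r aa, kk_r ww, ww, kk_r na, kk_r nw, nn, one_mul, mul_one]
  rcases hk with hk | hk
  swap
  · rw [hk, ← mul_assoc, ← cfa v v1, mul_assoc (ι v), mul_assoc (ι v), fta, mul_right_inj, mul_eq_left,
      map_eq_one_iff _ h.inj] at ak'
    have k3 := F.tt 0 4 0 1 4 1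
    have k4 := F.tt 1 5 4 1 4 5
    rw [ak', mul_one, mul_inv_cancel] at k3
    rw [← k3, mul_one, mul_inv_cancel, F.ez] at k4
    exact absurd k4.symm F.z1
  have gk : ι γ * (a * w * (a * w) * n₀) * (ι γ)⁻¹ = a * (a * w * (a * w) * n₀) * a := by
    rcases P.le with rfl | rfl
    · rw [pow_zero, mul_one] at fd' fx'
      rw [ak, kk_cj, ← g1, ← fd', ← g4, ← fx', ← g2]
    · rw [pow_one, map_mul] at fx'
      rw [← kk_1 nw (conj_eq_iff.1 Za) (conj_eq_iff.1 Zn) (conj_eq_iff.1 Zw) (mul_inv_eq_iff_eq_mul.1 Xa)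
        (conj_eq_iff.1 Xw) (by
          rw [← map_mul, ← map_mul, ← map_mul, zx, ← mul_assoc x, xx, one_mul, h.zz, map_one]), ← fx', kk_m, kk_m,
        ← g1, ← g2]
      simp only [mul_assoc, kk_r aa, one_mul]
  rw [ak', hk, ← map_inv, ← map_mul, ← map_mul] at gk
  have gv := h.inj gk
  rcases hv with k | k | k | k <;> rw [k] at hk gv
  · left
    rw [map_one] at hk
    calc w * a * w = a * (a * w * (a * w) * n₀) * n₀ := by simp only [mul_assoc, kk_r aa, nn, one_mul, mul_one]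
      _ = b := by rw [hk, mul_one, an]
  · rw [F.γ3, mul_eq_left] at gv
    exact absurd gv F.d1
  · right
    calc w * a * w = a * (a * w * (a * w) * n₀) * n₀ := by simp only [mul_assoc, kk_r aa, nn, one_mul, mul_one]
      _ = b * ι d := by rw [hk, ← Da, mul_assoc, an, Db]
  · rw [show γ * (z * d) * γ⁻¹ = γ * z * γ⁻¹ * (γ * d * γ⁻¹) by group, F.γ3, F.γ4, mul_eq_left] at gv
    exact absurd gv F.d1

end Cfsg.Agent.M2R
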