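import Cfsg.Agent.M2R.Def

/-! Standard subgroup `M₁₂`, additive doubling: the field case is impossible, braid relations. -/

set_option autoImplicit false
set_option linter.unusedSectionVars false
set_option linter.unusedVariables false

namespace Cfsg.Agent.M2R

open Subgroup Cfsg.Agent.Wr

variable {M G : Type*} [Group M] [Group G] {ι : M →* G} {t : G} {f : M → G} {N : Subgroup M}
  {z d x γ : M} {τ : Fin 6 → Fin 6 → M}

theorem k1_ca (F : Cf N z d x γ τ) (h : Dbl ι t z f) (i j k l k' l' : Fin 6)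
    (e : i ≠ j ∧ k ≠ l ∧ (Equiv.swap i j k = k' ∧ Equiv.swap i j l = l' ∨
      Equiv.swap i j k = l' ∧ Equiv.swap i j l = k')) :
    MulAut.conj (ι (τ i j)) (f (τ k l)) = f (τ k' l') := F.mv h i j k l k' l' e

theorem k1_ce (F : Cf N z d x γ τ) (ι : M →* G) (i j k l k' l' : Fin 6)
    (e : i ≠ j ∧ k ≠ l ∧ (Equiv.swap i j k = k' ∧ Equiv.swap i j l = l' ∨
      Equiv.swap i j k = l' ∧ Equiv.swap i j l = k')) :
    MulAut.conj (ι (τ i j)) (ι (τ k l)) = ι (τ k' l') := by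
  rw [← F.tt i j k l k' l' e, map_mul, map_mul, map_inv]; rfl

theorem k1_alpha {a b c w : G} (aa : a * a = 1) (bb : b * b = 1) (ab : a * b = b * a)
    (e : a * b * c * (b * a) = w) : a * c * a = b * w * b := by
  calc a * c * a = (b * b) * a * c * a * (b * b) := by rw [bb]; group
    _ = b * (b * a) * c * (a * b) * b := by group
    _ = b * (a * b) * c * (b * a) * b := by rw [ab]
    _ = b * w * b := by rw [← e]; group

/-- Write `a i j = f (τ i j)`, `e i j = ι (τ i j)`. The hypothesis gives `α := a02 a01 a02 = a13 (a23 e23) e01 a13`.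
Conjugate by `e04`: `α' := a24 a14 a24 = a13 (a23 e23) e14 a13`. So `α⁻¹ α' = a13 c a13` with `c = e01 e14`
(`a23 e23` is an involution), and `α⁻¹ α' = a02 a01 a02 a24 a14 a24` is fixed by `e35`, so `a15 c a15 = a13 c a13`:
`η = a13 a15` commutes with `c`, also with `e04`, so with `e14 = c e04`, `e01 = c e14`. Hence (conjugate by `e01`)
`a03 a05 = a13 a15` (1). Conjugate (1) by `t` (`h.tft`): `a03 e03 a05 e05 = a13 e13 a15 e15`, i.e.
`a03 a35 e03 e05 = a13 a35 e13 e15`, i.e. `a13 a03 = a35 (e13 e15 e05 e03) a35` (2). Conjugating (1) by a permutation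
(`0 ↦ 3, 3 ↦ 1, 5 ↦ 0, 1 ↦ 5`, a product of transpositions) gives `a13 a03 = a15 a05`, so the left side of (2) is fixed by `e35`;
the right side goes to `a35 (e15 e13 e03 e05) a35`. This contradicts `F.ne` (`h.inj`). -/
theorem k1 (h : Dbl ι t z f) (F : Cf N z d x γ τ) (S : Sx f τ)
    (e : f (τ 0 2) * f (τ 1 3) * f (τ 0 1) * (f (τ 1 3) * f (τ 0 2)) = f (τ 2 3) * ι d) : False := by
  have aa : ∀ i j, i ≠ j → f (τ i j) * f (τ i j) = 1 := fun i j hij => h.ff (F.cl hij)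
  have ee : ∀ i j, i ≠ j → ι (τ i j) * ι (τ i j) = 1 := fun i j hij => h.ιι (F.cl hij)
  have ca := k1_ca F h
  have ce := k1_ce F ι
  have h1 := k1_alpha (aa 0 2 (by decide)) (aa 1 3 (by decide))
    (S.com 0 2 1 3 (by decide) (by decide) (by decide) (by decide) (by decide) (by decide)) e
  rw [← F.ed, map_mul] at h1
  have h2 := congrArg (MulAut.conj (ι (τ 0 4))) h1
  simp only [map_mul] at h2
  rw [ca 0 4 0 2 2 4 (by decide), ca 0 4 0 1 1 4 (by decide), ca 0 4 1 3 1 3 (by decide),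
    ca 0 4 2 3 2 3 (by decide), ce 0 4 0 1 1 4 (by decide), ce 0 4 2 3 2 3 (by decide)] at h2
  have c1 : ι (τ 0 1) * f (τ 2 3) = f (τ 2 3) * ι (τ 0 1) :=
    mul_inv_eq_iff_eq_mul.1 (ca 0 1 2 3 2 3 (by decide))
  have c2 : ι (τ 2 3) * f (τ 2 3) = f (τ 2 3) * ι (τ 2 3) :=
    mul_inv_eq_iff_eq_mul.1 (ca 2 3 2 3 2 3 (by decide))
  have c3 : ι (τ 2 3) * ι (τ 1 4) = ι (τ 1 4) * ι (τ 2 3) :=
    mul_inv_eq_iff_eq_mul.1 (ce 2 3 1 4 1 4 (by decide))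
  have h3 : f (τ 0 2) * f (τ 0 1) * f (τ 0 2) * (f (τ 2 4) * f (τ 1 4) * f (τ 2 4)) =
      f (τ 1 3) * (ι (τ 0 1) * ι (τ 1 4)) * f (τ 1 3) := by
    rw [h1, h2]
    calc _ = f (τ 1 3) * ((f (τ 2 3) * ι (τ 0 1)) * (ι (τ 2 3) * (f (τ 1 3) * f (τ 1 3)) * f (τ 2 3)) *
          (ι (τ 1 4) * ι (τ 2 3))) * f (τ 1 3) := by group
      _ = f (τ 1 3) * ((ι (τ 0 1) * f (τ 2 3)) * (f (τ 2 3) * ι (τ 2 3)) *
          (ι (τ 2 3) * ι (τ 1 4))) * f (τ 1 3) := by rw [aa 1 3 (by decide), mul_one, c1, c2, c3]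
      _ = f (τ 1 3) * (ι (τ 0 1) * (f (τ 2 3) * f (τ 2 3)) * (ι (τ 2 3) *
          ι (τ 2 3)) * ι (τ 1 4)) * f (τ 1 3) := by group
      _ = _ := by rw [aa 2 3 (by decide), ee 2 3 (by decide), mul_one, mul_one]
  have h4 := congrArg (MulAut.conj (ι (τ 3 5))) h3
  simp only [map_mul] at h4
  rw [ca 3 5 0 2 0 2 (by decide), ca 3 5 0 1 0 1 (by decide), ca 3 5 2 4 2 4 (by decide),
    ca 3 5 1 4 1 4 (by decide), ca 3 5 1 3 1 5 (by decide), ce 3 5 0 1 0 1 (by decide),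
    ce 3 5 1 4 1 4 (by decide), h3] at h4
  have k1 : Commute (ι (τ 0 1) * ι (τ 1 4)) (f (τ 1 3) * f (τ 1 5)) := by
    show _ * _ = _ * _
    calc _ = (f (τ 1 3) * f (τ 1 3)) * (ι (τ 0 1) * ι (τ 1 4)) * (f (τ 1 3) * f (τ 1 5)) := by
          rw [aa 1 3 (by decide), one_mul]
      _ = f (τ 1 3) * (f (τ 1 3) * (ι (τ 0 1) * ι (τ 1 4)) * f (τ 1 3)) * f (τ 1 5) := by group
      _ = f (τ 1 3) * f (τ 1 5) * (ι (τ 0 1) * ι (τ 1 4)) * (f (τ 1 5) * f (τ 1 5)) := by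
          rw [h4]; group
      _ = _ := by rw [aa 1 5 (by decide), mul_one]
  have k2 : Commute (ι (τ 0 4)) (f (τ 1 3) * f (τ 1 5)) :=
    Commute.mul_right (mul_inv_eq_iff_eq_mul.1 (ca 0 4 1 3 1 3 (by decide)))
      (mul_inv_eq_iff_eq_mul.1 (ca 0 4 1 5 1 5 (by decide)))
  have c4 : ι (τ 1 4) * ι (τ 0 4) = ι (τ 0 1) * ι (τ 1 4) :=
    mul_inv_eq_iff_eq_mul.1 (ce 1 4 0 4 0 1 (by decide))
  have k3 : Commute (ι (τ 1 4)) (f (τ 1 3) * f (τ 1 5)) := by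
    have := k1.mul_left k2
    rwa [mul_assoc, c4, ← mul_assoc, ee 0 1 (by decide), one_mul] at this
  have k4 : Commute (ι (τ 0 1)) (f (τ 1 3) * f (τ 1 5)) := by
    have := k1.mul_left k3
    rwa [mul_assoc, ee 1 4 (by decide), mul_one] at this
  have q1 : MulAut.conj (ι (τ 0 1)) (f (τ 1 3) * f (τ 1 5)) = f (τ 1 3) * f (τ 1 5) :=
    mul_inv_eq_iff_eq_mul.2 k4
  rw [map_mul, ca 0 1 1 3 0 3 (by decide), ca 0 1 1 5 0 5 (by decide)] at q1
  have tc : ∀ u v : G, t * (u * v) * t = t * u * t * (t * v * t) := fun u v => by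
    calc _ = t * u * (t * t) * v * t := by rw [h.tt]; group
      _ = _ := by group
  have q2 := congrArg (fun u => t * u * t) q1
  simp only [tc] at q2
  rw [h.tft (F.cl (by decide)), h.tft (F.cl (by decide)), h.tft (F.cl (by decide)),
    h.tft (F.cl (by decide))] at q2
  have c5 : ι (τ 0 3) * f (τ 0 5) = f (τ 3 5) * ι (τ 0 3) :=
    mul_inv_eq_iff_eq_mul.1 (ca 0 3 0 5 3 5 (by decide))
  have c6 : ι (τ 1 3) * f (τ 1 5) = f (τ 3 5) * ι (τ 1 3) :=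
    mul_inv_eq_iff_eq_mul.1 (ca 1 3 1 5 3 5 (by decide))
  have q3 : f (τ 1 3) * f (τ 0 3) =
      f (τ 3 5) * (ι (τ 1 3) * ι (τ 1 5) * ι (τ 0 5) * ι (τ 0 3)) * f (τ 3 5) := by
    calc _ = f (τ 1 3) * f (τ 0 3) * (f (τ 3 5) * (ι (τ 0 3) * (ι (τ 0 5) * ι (τ 0 5)) * ι (τ 0 3)) *
          f (τ 3 5)) := by
          rw [ee 0 5 (by decide), mul_one, ee 0 3 (by decide), mul_one, aa 3 5 (by decide), mul_one]
      _ = f (τ 1 3) * (f (τ 0 3) * (f (τ 3 5) * ι (τ 0 3)) * ι (τ 0 5)) * (ι (τ 0 5) * ι (τ 0 3) *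
          f (τ 3 5)) := by group
      _ = f (τ 1 3) * (f (τ 0 3) * ι (τ 0 3) * (f (τ 0 5) * ι (τ 0 5))) * (ι (τ 0 5) * ι (τ 0 3) *
          f (τ 3 5)) := by rw [← c5]; group
      _ = f (τ 1 3) * f (τ 1 3) * (ι (τ 1 3) * f (τ 1 5)) * ι (τ 1 5) * (ι (τ 0 5) * ι (τ 0 3) *
          f (τ 3 5)) := by rw [q2]; group
      _ = _ := by rw [aa 1 3 (by decide), one_mul, c6]; group
  have r1 := congrArg (MulAut.conj (ι (τ 0 3))) q1
  rw [map_mul, map_mul, ca 0 3 0 3 0 3 (by decide), ca 0 3 0 5 3 5 (by decide),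
    ca 0 3 1 3 0 1 (by decide), ca 0 3 1 5 1 5 (by decide)] at r1
  have r2 := congrArg (MulAut.conj (ι (τ 0 1))) r1
  rw [map_mul, map_mul, ca 0 1 0 3 1 3 (by decide), ca 0 1 3 5 3 5 (by decide),
    ca 0 1 0 1 0 1 (by decide), ca 0 1 1 5 0 5 (by decide)] at r2
  have r3 := congrArg (MulAut.conj (ι (τ 0 5))) r2
  rw [map_mul, map_mul, ca 0 5 1 3 1 3 (by decide), ca 0 5 3 5 0 3 (by decide),
    ca 0 5 0 1 1 5 (by decide), ca 0 5 0 5 0 5 (by decide)] at r3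
  have q4 := congrArg (MulAut.conj (ι (τ 3 5))) q3
  simp only [map_mul] at q4
  rw [ca 3 5 1 3 1 5 (by decide), ca 3 5 0 3 0 5 (by decide), ca 3 5 3 5 3 5 (by decide),
    ce 3 5 1 3 1 5 (by decide), ce 3 5 1 5 1 3 (by decide), ce 3 5 0 5 0 3 (by decide),
    ce 3 5 0 3 0 5 (by decide), ← r3, q3] at q4
  refine F.ne (h.inj ?_)
  simpa only [map_mul] using mul_left_cancel (mul_right_cancel q4)

/-- `α := a02 a01 a02 = a13 a23 a13` is fixed by `e34` (left form) and `e04` (right form), so by `e03 = e04 e34 e04`;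
conjugating the left form by `e03` gives `a23 a13 a23 = a13 a23 a13`; conjugate this to the pair `(0 1), (1 2)`. -/
theorem braid (h : Dbl ι t z f) (F : Cf N z d x γ τ) (S : Sx f τ)
    (e : f (τ 0 2) * f (τ 1 3) * f (τ 0 1) * (f (τ 1 3) * f (τ 0 2)) = f (τ 2 3)) :
    f (τ 0 1) * f (τ 1 2) * f (τ 0 1) = f (τ 1 2) * f (τ 0 1) * f (τ 1 2) := by
  have aa : ∀ i j, i ≠ j → f (τ i j) * f (τ i j) = 1 := fun i j hij => h.ff (F.cl hij)
  have ca := k1_ca F h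
  have ce := k1_ce F ι
  have h1 := k1_alpha (aa 0 2 (by decide)) (aa 1 3 (by decide))
    (S.com 0 2 1 3 (by decide) (by decide) (by decide) (by decide) (by decide) (by decide)) e
  have u1 : MulAut.conj (ι (τ 3 4)) (f (τ 0 2) * f (τ 0 1) * f (τ 0 2)) =
      f (τ 0 2) * f (τ 0 1) * f (τ 0 2) := by
    rw [map_mul, map_mul, ca 3 4 0 2 0 2 (by decide), ca 3 4 0 1 0 1 (by decide)]
  have u2 : MulAut.conj (ι (τ 0 4)) (f (τ 0 2) * f (τ 0 1) * f (τ 0 2)) =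
      f (τ 0 2) * f (τ 0 1) * f (τ 0 2) := by
    rw [h1, map_mul, map_mul, ca 0 4 1 3 1 3 (by decide), ca 0 4 2 3 2 3 (by decide)]
  have v1 : Commute (ι (τ 3 4)) (f (τ 0 2) * f (τ 0 1) * f (τ 0 2)) := mul_inv_eq_iff_eq_mul.1 u1
  have v2 : Commute (ι (τ 0 4)) (f (τ 0 2) * f (τ 0 1) * f (τ 0 2)) := mul_inv_eq_iff_eq_mul.1 u2
  have v3 : Commute (ι (τ 0 3)) (f (τ 0 2) * f (τ 0 1) * f (τ 0 2)) := by
    rw [← ce 0 4 3 4 0 3 (by decide)]
    exact (v2.mul_left v1).mul_left v2.inv_left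
  have u3 : MulAut.conj (ι (τ 0 3)) (f (τ 0 2) * f (τ 0 1) * f (τ 0 2)) =
      f (τ 0 2) * f (τ 0 1) * f (τ 0 2) := mul_inv_eq_iff_eq_mul.2 v3
  rw [map_mul, map_mul, ca 0 3 0 2 2 3 (by decide), ca 0 3 0 1 1 3 (by decide), h1] at u3
  have r1 := congrArg (MulAut.conj (ι (τ 1 3))) u3
  simp only [map_mul] at r1
  rw [ca 1 3 2 3 1 2 (by decide), ca 1 3 1 3 1 3 (by decide)] at r1
  have r2 := congrArg (MulAut.conj (ι (τ 0 3))) r1
  simp only [map_mul] at r2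
  rw [ca 0 3 1 2 1 2 (by decide), ca 0 3 1 3 0 1 (by decide)] at r2
  exact r2.symm

end Cfsg.Agent.M2R
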