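import Cfsg.Agent.M2R.R1

/-! Standard subgroup `M₁₂`, additive doubling: the twisted case is impossible. -/

set_option autoImplicit false
set_option linter.unusedSectionVars false
set_option linter.unusedVariables false

namespace Cfsg.Agent.M2R

open Subgroup Cfsg.Agent.Wr

variable {M G : Type*} [Group M] [Group G] {ι : M →* G} {t : G} {f : M → G} {N : Subgroup M}
  {z d x γ : M} {τ : Fin 6 → Fin 6 → M}

theorem n1_step (h : Dbl ι t z f) (k : M) {u v w u' v' w' : M} (hu : k * u * k⁻¹ = u') (hv : k * v * k⁻¹ = v')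
    (hw : k * w * k⁻¹ = w') (cu : Cl z u) (cv : Cl z v)
    (E : Cl z (u * v) ∧ f (u * v) = f u * f v * ι (w * (u * v))) :
    Cl z (u' * v') ∧ f (u' * v') = f u' * f v' * ι (w' * (u' * v')) := by
  subst hu hv hw
  have e : k * u * k⁻¹ * (k * v * k⁻¹) = k * (u * v) * k⁻¹ := by group
  rw [e, h.eqv _ _ E.1, h.eqv _ _ cu, h.eqv _ _ cv, E.2]
  refine ⟨E.1.conj k, ?_⟩
  simp only [map_mul, map_inv]
  group

theorem n1_word {a b c u p r : G} (aa : a * a = 1) (bb : b * b = 1) (cc : c * c = 1) (uu : u * u = 1)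
    (pp : p * p = 1) (rr : r * r = 1) (ac : a * c = c * a) (ub : u * b = b * u) (pr : p * r = r * p)
    (four : a * c * (p * r) = u * b) (e : p * r * a * (r * p) = c) (e' : p * r * b * (r * p) = u)
    (br : a * b * a = b * a * b) (w : G) : c * (u * (a * (b * (c * (u * w))))) = p * r * w := by
  obtain ⟨A, rfl⟩ : ∃ A, c = a * A := ⟨a⁻¹ * c, by group⟩
  obtain ⟨B, rfl⟩ : ∃ B, u = b * B := ⟨b⁻¹ * u, by group⟩
  have k : ∀ {x : G}, x * x = 1 → ∀ w, x * (x * w) = w := fun e w => by rw [← mul_assoc, e, one_mul]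
  have CC : p * r * (p * r) = 1 := by rw [mul_assoc, ← mul_assoc r, ← pr, mul_assoc, rr, mul_one, pp]
  rw [← pr] at e e'
  generalize p * r = C at *
  have Aa : A * a = a * A := (mul_left_cancel (ac.trans (mul_assoc _ _ _))).symm
  have Bb : B * b = b * B := mul_left_cancel ((mul_assoc _ _ _).symm.trans ub)
  have AA : A * A = 1 := by rwa [mul_assoc, ← mul_assoc A, Aa, mul_assoc, k aa] at cc
  have BB : B * B = 1 := by rwa [mul_assoc, ← mul_assoc B, Bb, mul_assoc, k bb] at uu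
  rw [k aa, mul_assoc, Bb, k bb] at four
  have AB : ∀ w, A * (B * w) = C * w := fun w => by rw [← four, mul_assoc, k AA]
  have BC : B * C = A := by rw [← four, mul_assoc, CC, mul_one]
  have CB : ∀ w, C * (B * w) = A * w := fun w => by
    rw [← mul_assoc, ← inv_eq_of_mul_eq_one_left CC, ← inv_eq_of_mul_eq_one_left BB, ← mul_inv_rev, BC,
      inv_eq_of_mul_eq_one_left AA]
  have BA : ∀ w, B * (A * w) = C * w := fun w => by rw [← k CC (B * _), CB, k AA]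
  have Ca : ∀ w, C * (a * w) = a * (B * w) := fun w => by
    rw [← four, ← mul_assoc, ← mul_assoc a, ← mul_assoc a, ← e, mul_assoc _ C C, CC, mul_one]
  have Cb : ∀ w, C * (b * w) = b * (A * w) := fun w => by
    rw [← BC, ← mul_assoc, ← mul_assoc b, ← mul_assoc b, ← e', mul_assoc _ C C, CC, mul_one]
  have Ab : ∀ w, A * (b * w) = b * (C * w) := fun w => (k bb _).symm.trans (by rw [← Cb, k bb])
  have Ba : ∀ w, B * (a * w) = a * (C * w) := fun w => (k aa _).symm.trans (by rw [← Ca, k aa])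
  have Aa' : ∀ w, A * (a * w) = a * (A * w) := fun w => by rw [← mul_assoc, Aa, mul_assoc]
  have Bb' : ∀ w, B * (b * w) = b * (B * w) := fun w => by rw [← mul_assoc, Bb, mul_assoc]
  have br' : ∀ w, a * (b * (a * w)) = b * (a * (b * w)) := fun w => by simp only [← mul_assoc, br]
  simp only [mul_assoc, Ab, Ba, Aa', Bb', Ca, Cb, CB]
  rw [br', k bb, k aa, k bb, ← mul_assoc, four, BA]

/-- Conjugate `(fd h F P).1` by `τ 2 4 * τ 3 5` : `f (τ 0 1 * z) = a01 a45 ι(z d)`, and then by a permutation fixing `4, 5`: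
`f (τ 1 2 * z) = a12 a45 ι(z d x)` (`d x = τ 0 3 * τ 1 2`). `g = a45 * ι z` is an involution which commutes with `a01, a12, ι d, ι x`
(`S.com`), so `b'` gives the braid relation for `a X₁`, `b X₂` with `a = a01`, `b = a12`, `X₁ = ι d`, `X₂ = ι (d x)`.
Put `N₁ = a01 a23`, `N₂ = a03 a12`, `N₃ = a02 a13 = N₁ N₂` (`S.four`; a four-group commuting with `X₁, X₂`).
`a X₁ a = X₁`, `a X₂ a = X₂ N₁`, `a N₁ a = N₁`, `a N₃ a = N₂` (from `e`); conjugating by a 3-cycle (or directly)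
`b X₂ b = X₂`, `b X₁ b = X₁ N₂`, `b N₂ b = N₂`, `b N₁ b = N₃` (conjugate of `e` by `τ 0 2`). Then
`(a X₁ b X₂)³ = (a b)³ * ι x * N₃`, so `N₃ = ι x` commutes with `t`; but `t N₃ t = N₃ ι x`, so `x = 1`, so `d = 1`. -/
theorem n1 (h : Dbl ι t z f) (F : Cf N z d x γ τ) (P : Pn ι f z d x 1)
    (e : f (τ 0 2) * f (τ 1 3) * f (τ 0 1) * (f (τ 1 3) * f (τ 0 2)) = f (τ 2 3))
    (b : f (τ 0 1) * f (τ 1 2) * f (τ 0 1) = f (τ 1 2) * f (τ 0 1) * f (τ 1 2))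
    (b' : f (τ 0 1 * z) * f (τ 1 2 * z) * f (τ 0 1 * z) = f (τ 1 2 * z) * f (τ 0 1 * z) * f (τ 1 2 * z)) : False := by
  have S := sx h F P
  have c : ∀ i j : Fin 6, (_ : i ≠ j := by decide) → Cl z (τ i j) := fun i j e => F.cl e
  have E0 := (fd h F P).1
  rw [pow_one, ← F.ed] at E0
  nth_rw 1 [← F.ez] at E0
  have E1 := n1_step h _ (F.tt 3 5 0 1 0 1) (F.tt 3 5 3 4 4 5) (F.tt 3 5 2 5 2 3) (c 0 1) (c 3 4)
    (n1_step h _ (F.tt 2 4 0 1 0 1) (F.tt 2 4 2 3 3 4) (F.tt 2 4 4 5 2 5) (c 0 1) (c 2 3) ⟨F.ed ▸ F.cld, E0⟩)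
  have E2 := n1_step h _ (F.tt 0 2 0 1 1 2) (F.tt 0 2 4 5 4 5) (F.tt 0 2 2 3 0 3) (c 0 1) (c 4 5) E1
  have m : ∀ i j : Fin 6, (_ : i ≠ j ∧ 4 ≠ i ∧ 4 ≠ j ∧ 5 ≠ i ∧ 5 ≠ j := by decide) → ∀ w,
      f (τ 4 5) * (f (τ i j) * w) = f (τ i j) * (f (τ 4 5) * w) := fun i j e w => by
    rw [← mul_assoc, S.com 4 5 i j (by decide) e.1 e.2.1 e.2.2.1 e.2.2.2.1 e.2.2.2.2, mul_assoc]
  have k : ∀ i j : Fin 6, (_ : i ≠ j := by decide) → ∀ w, f (τ i j) * (f (τ i j) * w) = w := fun i j e w => by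
    rw [← mul_assoc, h.ff (c i j e), one_mul]
  rw [← F.ez, E1.2, E2.2] at b'
  simp only [map_mul, mul_assoc, F.mw h 4 5 1 2 1 2, F.mw h 4 5 4 5 4 5, F.mw h 4 5 0 1 0 1, F.mw h 4 5 2 3 2 3,
    F.mw h 4 5 0 3 0 3, F.mw h 0 1 1 2 0 2, F.mw h 2 3 0 2 0 3, F.mw h 0 1 4 5 4 5, F.mw h 2 3 4 5 4 5,
    F.mw h 1 2 0 1 0 2, F.mw h 0 3 0 2 2 3, F.mw h 0 1 2 3 2 3, F.mw h 2 3 2 3 2 3, F.mw h 1 2 4 5 4 5,
    F.mw h 0 3 4 5 4 5, F.mw h 1 2 0 3 0 3, F.mw h 0 3 0 3 0 3, m 0 3, m 2 3, k 4 5] at b'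
  simp only [← map_mul] at b'
  have e' : f (τ 0 2) * f (τ 1 3) * f (τ 1 2) * (f (τ 1 3) * f (τ 0 2)) = f (τ 0 3) := by
    have := congrArg (fun w => ι (τ 0 2) * (w * (ι (τ 0 2))⁻¹)) e
    simpa only [mul_assoc, F.mw h 0 2 2 3 0 3, F.mw h 0 2 0 1 1 2, F.mw h 0 2 0 2 0 2, F.mw h 0 2 1 3 1 3,
      mul_inv_cancel, mul_one] using this
  have W := n1_word (h.ff (c 0 1)) (h.ff (c 1 2)) (h.ff (c 2 3)) (h.ff (c 0 3)) (h.ff (c 0 2)) (h.ff (c 1 3))
    (by apply S.com <;> decide) (by apply S.com <;> decide) (by apply S.com <;> decide) S.four e e' b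
  have b2 := congrArg (fun w => f (τ 2 3) * (f (τ 0 3) * (f (τ 0 1) * w))) b'
  simp only [W, k 0 1, k 0 3, k 2 3] at b2
  rw [mul_assoc, ← m 1 3, ← m 0 2, mul_right_inj, ← mul_assoc (f _), ← mul_inv_eq_iff_eq_mul, ← map_inv,
    ← map_mul] at b2
  have b3 := congrArg (t * ·) b2
  simp only [h.tA] at b3
  rw [b2, ← mul_assoc, h.tf (c 0 2), mul_assoc _ t, h.tf (c 1 3)] at b3
  simp only [mul_assoc, F.mw h 0 2 1 3 1 3, mul_right_inj] at b3
  rw [← mul_assoc, eq_comm, mul_eq_right, ← map_mul, map_eq_one_iff _ h.inj] at b3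
  refine F.d1 ?_
  rw [← F.ed, ← F.tt 1 2 0 2 0 1, ← F.tt 1 2 1 3 2 3, conj_mul, b3, mul_one, mul_inv_cancel]

end Cfsg.Agent.M2R
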