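import Cfsg.Agent.M2R.Def

/-! Standard subgroup `M₁₂`, additive doubling: the lifts on the normal `2³` of `C(z)`. -/

set_option autoImplicit false
set_option linter.unusedSectionVars false
set_option linter.unusedVariables false

namespace Cfsg.Agent.M2R

open Subgroup Cfsg.Agent.Wr

variable {M G : Type*} [Group M] [Group G] {ι : M →* G} {t : G} {f : M → G} {N : Subgroup M}
  {z d x γ : M} {τ : Fin 6 → Fin 6 → M}

theorem r1_mul (a b c : M) : a * (b * c) * a⁻¹ = a * b * a⁻¹ * (a * c * a⁻¹) := by group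

theorem r1_mulG (a b c : G) : a * (b * c) * a⁻¹ = a * b * a⁻¹ * (a * c * a⁻¹) := by group

theorem r1_ι (a b : M) (n : ℕ) : ι a * ι b ^ n * (ι a)⁻¹ = ι (a * b * a⁻¹) ^ n := by
  rw [map_mul, map_mul, map_inv, conj_pow]

theorem Cf.r_dx (F : Cf N z d x γ τ) : d * x = τ 0 3 * τ 1 2 := by
  have e1 : d * τ 0 2 * d⁻¹ = τ 1 3 := by
    rw [← F.ed, show τ 0 1 * τ 2 3 * τ 0 2 * (τ 0 1 * τ 2 3)⁻¹ =
      τ 0 1 * (τ 2 3 * τ 0 2 * (τ 2 3)⁻¹) * (τ 0 1)⁻¹ by group, F.tt 2 3 0 2 0 3, F.tt 0 1 0 3 1 3]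
  have e2 : τ 1 3 * d * (τ 1 3)⁻¹ = τ 0 3 * τ 1 2 := by
    rw [← F.ed, r1_mul, F.tt 1 3 0 1 0 3, F.tt 1 3 2 3 1 2]
  rw [← e2, F.inv (by decide), ← e1, ← F.ex, e1]
  nth_rewrite 2 [← e1]
  group

theorem Cf.r12 (F : Cf N z d x γ τ) : τ 1 2 * z * (τ 1 2)⁻¹ = z ∧ τ 1 2 * d * (τ 1 2)⁻¹ = x ∧
    τ 1 2 * x * (τ 1 2)⁻¹ = d ∧ τ 1 2 * (d * x) * (τ 1 2)⁻¹ = d * x := by
  refine ⟨?_, ?_, ?_, ?_⟩
  · rw [← F.ez, F.tt 1 2 4 5 4 5]
  · rw [← F.ed, ← F.ex, r1_mul, F.tt 1 2 0 1 0 2, F.tt 1 2 2 3 1 3]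
  · rw [← F.ed, ← F.ex, r1_mul, F.tt 1 2 0 2 0 1, F.tt 1 2 1 3 2 3]
  · rw [F.r_dx, r1_mul, F.tt 1 2 0 3 0 3, F.tt 1 2 1 2 1 2]

theorem Cf.r13 (F : Cf N z d x γ τ) : τ 1 3 * z * (τ 1 3)⁻¹ = z ∧ τ 1 3 * d * (τ 1 3)⁻¹ = d * x := by
  refine ⟨?_, ?_⟩
  · rw [← F.ez, F.tt 1 3 4 5 4 5]
  · rw [F.r_dx, ← F.ed, r1_mul, F.tt 1 3 0 1 0 3, F.tt 1 3 2 3 1 2]

theorem Cf.r23 (F : Cf N z d x γ τ) : τ 2 3 * z * (τ 2 3)⁻¹ = z ∧ τ 2 3 * d * (τ 2 3)⁻¹ = d ∧
    τ 2 3 * x * (τ 2 3)⁻¹ = d * x ∧ τ 2 3 * (d * x) * (τ 2 3)⁻¹ = x := by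
  refine ⟨?_, ?_, ?_, ?_⟩
  · rw [← F.ez, F.tt 2 3 4 5 4 5]
  · rw [← F.ed, r1_mul, F.tt 2 3 0 1 0 1, F.tt 2 3 2 3 2 3]
  · rw [F.r_dx, ← F.ex, r1_mul, F.tt 2 3 0 2 0 3, F.tt 2 3 1 3 1 2]
  · rw [F.r_dx, ← F.ex, r1_mul, F.tt 2 3 0 3 0 2, F.tt 2 3 1 2 1 3]

theorem Cf.r_cldx (F : Cf N z d x γ τ) : Cl z (d * x) := F.r13.2 ▸ F.cld.conj _

theorem Cf.r_clzx (F : Cf N z d x γ τ) : Cl z (z * x) := by
  have := F.clzd.conj (τ 1 2)
  rwa [r1_mul, F.r12.1, F.r12.2.1] at this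

theorem Cf.r_clzdx (F : Cf N z d x γ τ) : Cl z (z * (d * x)) := by
  have := F.clzd.conj (τ 1 3)
  rwa [r1_mul, F.r13.1, F.r13.2] at this

/-- Put `A = f d`, `B = f x`, `C = f (d x)`, `y = A B C`. (`d x = τ 0 3 * τ 1 2`; `τ 1 2` conjugates `d` to `x`,
`τ 1 3` conjugates `d` to `d x`, both fix `z`; so `f (z v) = f z * f v` and `f z` commutes with `f v` for
`v = d, x, d x` by `h.add_conj`, `h.add_symm`.) `A, B, C` commute with `ι d, ι x, ι z` (`h.cf`), so `y` commutes with `t`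
(`h.tf`). `ι q₁`, `ι q₂` commute with `y` (`h.eqv`: two of the factors are multiplied by `f z`), so do `ι d`, `ι x`. `h.cen`
with `Q.cQ`: `y = ι k` or `ι k * t` with `k ∈ {1, z}`. `ρ = τ 1 2 * τ 2 3` (or its inverse) fixes `z` and permutes
`d → x → d x → d`, so `ι ρ y (ι ρ)⁻¹ = B C A = A y A`; for `y = ι k * t` the left side is `y`, the right side is
`ι k * t * ι d` (`h.fft`), so `d = 1`: impossible. Hence `A B = ι k * C`, whose square is `1`. -/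
theorem r1 (h : Dbl ι t z f) (F : Cf N z d x γ τ) {q₁ q₂ : M} (Q : Fq N z d x q₁ q₂)
    (hl : f (z * d) = f z * f d) : ∃ n, Pn ι f z d x n := by
  have cz := cl_self z
  have cd := F.cld
  have cx := F.clx
  have cc := F.r_cldx
  have dx : d * x = x * d := D8.cm (h.sq cd) (h.sq cx) (h.sq cc)
  have zd : z * d = d * z := D8.cm h.zz (h.sq cd) (h.sq F.clzd)
  have zx : z * x = x * z := D8.cm h.zz (h.sq cx) (h.sq F.r_clzx)
  have zc : z * (d * x) = d * x * z := D8.cm h.zz (h.sq cc) (h.sq F.r_clzdx)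
  have hx : f (z * x) = f z * f x := by
    have := h.add_conj cz cd F.clzd hl (τ 1 2)
    rwa [F.r12.1, F.r12.2.1] at this
  have hc : f (z * (d * x)) = f z * f (d * x) := by
    have := h.add_conj cz cd F.clzd hl (τ 1 3)
    rwa [F.r13.1, F.r13.2] at this
  have ZA : Commute (f z) (f d) := (h.add_symm cz cd F.clzd zd hl).1
  have ZB : Commute (f z) (f x) := (h.add_symm cz cx F.r_clzx zx hx).1
  have cm : ∀ a : M, a * d = d * a → a * x = x * a → Commute (ι a) (f d) ∧ Commute (ι a) (f x) ∧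
      Commute (ι a) (f (d * x)) := fun a h1 h2 =>
    ⟨h.cf cd h1, h.cf cx h2, h.cf cc (Commute.mul_right h1 h2)⟩
  have cmd := cm d rfl dx
  have cmx := cm x dx.symm rfl
  have cmz := cm z zd zx
  have ty : f d * f x * f (d * x) * t = t * (f d * f x * f (d * x)) := by
    have e : ι d * (ι x * ι (d * x)) = 1 := by
      rw [← map_mul, ← map_mul, ← mul_assoc, h.sq cc, map_one]
    calc f d * f x * f (d * x) * t
        = f d * f x * f (d * x) * (ι d * (ι x * ι (d * x))) * t := by rw [e, mul_one]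
      _ = f d * (ι d * f x) * (ι x * f (d * x)) * ι (d * x) * t := by
          rw [cmd.2.1.eq, cmx.2.2.eq, show f d * (f x * ι d) * (f (d * x) * ι x) =
            f d * f x * (ι d * f (d * x)) * ι x by group, cmd.2.2.eq]; group
      _ = f d * ι d * (f x * ι x) * (f (d * x) * ι (d * x) * t) := by
          rw [cmx.2.2.eq, show f d * ι d * (f x * ι x) * (f (d * x) * ι (d * x) * t) =
            f d * (ι d * f x) * (ι x * f (d * x)) * ι (d * x) * t by group, cmx.2.2.eq]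
      _ = f d * ι d * (f x * ι x * t) * f (d * x) := by rw [← h.tf cc]; group
      _ = f d * ι d * t * f x * f (d * x) := by rw [← h.tf cx]; group
      _ = t * (f d * f x * f (d * x)) := by rw [← h.tf cd]; group
  have cj3 : ∀ a : M, ι a * (f d * f x * f (d * x)) * (ι a)⁻¹ =
      f (a * d * a⁻¹) * f (a * x * a⁻¹) * f (a * d * a⁻¹ * (a * x * a⁻¹)) := fun a => by
    rw [← r1_mul, h.eqv a _ cd, h.eqv a _ cx, h.eqv a _ cc]; group
  obtain ⟨k, hk, hy⟩ := h.cen ty (P := fun c => c = q₁ ∨ c = q₂ ∨ c = d ∨ c = x)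
    (Q := fun u => u = 1 ∨ u = z) (by
      rintro c (rfl | rfl | rfl | rfl)
      · refine conj_eq_iff.1 ?_
        rw [cj3, Q.d1, Q.x1, mul_assoc z, hl, hc, show f z * f d * f x * (f z * f (d * x)) =
          f z * (f d * f x * f z) * f (d * x) by group, ← (ZA.mul_right ZB).eq, ← mul_assoc, h.fz,
          one_mul]
      · refine conj_eq_iff.1 ?_
        rw [cj3, Q.d2, Q.x2, ← mul_assoc d z, ← zd, mul_assoc z, hx, hc,
          show f d * (f z * f x) * (f z * f (d * x)) = f d * (f z * (f x * f z)) * f (d * x) by group,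
          ← ZB.eq, ← mul_assoc (f z), h.fz, one_mul]
      · exact ((cmd.1.mul_right cmd.2.1).mul_right cmd.2.2).eq
      · exact ((cmx.1.mul_right cmx.2.1).mul_right cmx.2.2).eq)
    (fun u hu => Q.cQ u (hu _ (.inl rfl)).symm (hu _ (.inr (.inl rfl))).symm
      (hu _ (.inr (.inr (.inl rfl)))).symm (hu _ (.inr (.inr (.inr rfl)))).symm)
  have kc : Commute (ι k) (f d) ∧ Commute (ι k) (f x) ∧ Commute (ι k) (f (d * x)) := by
    rcases hk with rfl | rfl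
    · exact cm 1 (by simp) (by simp)
    · exact cmz
  have kk : ι k * ι k = 1 := by
    rcases hk with rfl | rfl
    · simp
    · exact h.ιι cz
  rcases hy with hy | hy
  · have e : f d * f x = f (d * x) * ι k := by
      rw [← kc.2.2.eq, ← hy, mul_assoc _ (f (d * x)), h.ff cc, mul_one]
    have com : f d * f x = f x * f d := D8.cm (h.ff cd) (h.ff cx) (by
      rw [e, show f (d * x) * ι k * (f (d * x) * ι k) = f (d * x) * (ι k * f (d * x)) * ι k by group,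
        kc.2.2.eq, ← mul_assoc, h.ff cc, one_mul, kk])
    rcases hk with rfl | rfl
    · exact ⟨0, .inl rfl, hl, by simpa using e, com⟩
    · exact ⟨1, .inr rfl, hl, by simpa using e, com⟩
  · exfalso
    have r : ∀ u : M, τ 1 2 * τ 2 3 * u * (τ 1 2 * τ 2 3)⁻¹ =
        τ 1 2 * (τ 2 3 * u * (τ 2 3)⁻¹) * (τ 1 2)⁻¹ := fun u => by group
    have e1 := cj3 (τ 1 2 * τ 2 3)
    rw [r d, r x, F.r23.2.1, F.r23.2.2.1, F.r12.2.1, F.r12.2.2.2, ← mul_assoc x, ← dx,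
      mul_assoc d, h.sq cx, mul_one] at e1
    have rk : τ 1 2 * τ 2 3 * k * (τ 1 2 * τ 2 3)⁻¹ = k := by
      rcases hk with rfl | rfl
      · simp
      · rw [r, F.r23.1, F.r12.1]
    have e2 : ι (τ 1 2 * τ 2 3) * (ι k * t) * (ι (τ 1 2 * τ 2 3))⁻¹ = ι k * t := by
      rw [r1_mulG, ← h.tA, mul_inv_cancel_right, ← map_inv, ← map_mul, ← map_mul, rk]
    have e3 : f x * f (d * x) * f d = f d * (f d * f x * f (d * x)) * f d := by
      rw [← mul_assoc, ← mul_assoc, h.ff cd, one_mul]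
    rw [e3, hy, e2, ← mul_assoc (f d), ← kc.1.eq, show ι k * f d * t * f d = ι k * (f d * t * f d) by group,
      h.fft cd, ← mul_assoc, left_eq_mul] at e1
    exact F.d1 (h.inj (e1.trans (map_one ι).symm))

/-- Conjugate `P.add`, `P.com` by `γ` (`d ↦ d`, `x ↦ τ 0 1`, `z ↦ z d`, `d * τ 0 1 = τ 2 3`):
`f d * a 0 1 = a 2 3 * ι (z d) ^ n` and `f d` commutes with `a 0 1`; `ι (z d)` commutes with `a 0 1`. -/
theorem fd (h : Dbl ι t z f) (F : Cf N z d x γ τ) {n : ℕ} (P : Pn ι f z d x n) :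
    f d = f (τ 0 1) * f (τ 2 3) * ι (z * d) ^ n ∧ f (τ 0 1) * f (τ 2 3) = f (τ 2 3) * f (τ 0 1) := by
  have c01 : Cl z (τ 0 1) := F.cl (by decide)
  have e0 : d * τ 0 1 = τ 2 3 := by
    have := F.tt 0 1 2 3 2 3
    rwa [F.inv (i := 0) (j := 1) (by decide), F.ed] at this
  have e1 : f d * f (τ 0 1) = f (τ 2 3) * ι (z * d) ^ n := by
    have := congrArg (fun u => ι γ * u * (ι γ)⁻¹) P.add
    rwa [r1_mulG, r1_mulG _ (f (d * x)), ← h.eqv _ _ F.cld, ← h.eqv _ _ F.clx, ← h.eqv _ _ F.r_cldx,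
      r1_ι, r1_mul γ d, F.γ4, F.γ2, F.γ3, e0] at this
  have e2 : f d * f (τ 0 1) = f (τ 0 1) * f d := by
    have := conj_comm (g := ι γ) P.com
    rwa [← h.eqv _ _ F.cld, ← h.eqv _ _ F.clx, F.γ4, F.γ2] at this
  have e3 : Commute (ι (z * d)) (f (τ 0 1)) := h.cf c01 (by
    have a1 : Commute (τ 4 5) (τ 0 1) := conj_eq_iff.1 (F.tt 4 5 0 1 0 1)
    have a2 : Commute (τ 2 3) (τ 0 1) := conj_eq_iff.1 (F.tt 2 3 0 1 0 1)
    rw [← F.ez, ← F.ed]
    exact (a1.mul_left ((Commute.refl _).mul_left a2)).eq)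
  have e4 : f d = f (τ 0 1) * f (τ 2 3) * ι (z * d) ^ n := by
    rw [mul_assoc, ← e1, e2, ← mul_assoc, h.ff c01, one_mul]
  refine ⟨e4, mul_right_cancel (b := ι (z * d) ^ n) ?_⟩
  rw [← e4, mul_assoc, ← (e3.pow_left n).eq, ← mul_assoc, ← e1, mul_assoc, h.ff c01, mul_one]

/-- conjugate `fd` by `τ 1 2` -/
theorem fx (h : Dbl ι t z f) (F : Cf N z d x γ τ) {n : ℕ} (P : Pn ι f z d x n) :
    f x = f (τ 0 2) * f (τ 1 3) * ι (z * x) ^ n := by
  have := congrArg (fun u => ι (τ 1 2) * u * (ι (τ 1 2))⁻¹) (fd h F P).1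
  rwa [r1_mulG, r1_mulG _ (f (τ 0 1)), ← h.eqv _ _ F.cld, F.mv h 1 2 0 1 0 2, F.mv h 1 2 2 3 1 3,
    r1_ι, r1_mul _ z, F.r12.1, F.r12.2.1] at this

/-- conjugate `fd` by `τ 1 3` -/
theorem fdx (h : Dbl ι t z f) (F : Cf N z d x γ τ) {n : ℕ} (P : Pn ι f z d x n) :
    f (d * x) = f (τ 0 3) * f (τ 1 2) * ι (z * (d * x)) ^ n := by
  have := congrArg (fun u => ι (τ 1 3) * u * (ι (τ 1 3))⁻¹) (fd h F P).1
  rwa [r1_mulG, r1_mulG _ (f (τ 0 1)), ← h.eqv _ _ F.cld, F.mv h 1 3 0 1 0 3, F.mv h 1 3 2 3 1 2,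
    r1_ι, r1_mul _ z, F.r13.1, F.r13.2] at this

/-- `com`: conjugate `(fd).2` by transpositions (any disjoint pair is conjugate to `(0 1), (2 3)`: move `0 ↦ i`, then
`1 ↦ j`, …; or `fin_cases`). `four`: insert `fd`, `fx` and `f (d x) = a 0 3 * a 1 2 * ι (z d x) ^ n` (conjugate `fd` by `τ 1 3`)
into `P.add`; `ι (z d)` commutes with `a 0 2 * a 1 3` (it swaps the two commuting factors) and
`(z d)(z x) = (z d x) z`; cases `n = 0, 1`. -/
theorem sx (h : Dbl ι t z f) (F : Cf N z d x γ τ) {n : ℕ} (P : Pn ι f z d x n) : Sx f τ := by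
  have key : ∀ σ : Equiv.Perm (Fin 6), f (τ (σ 0) (σ 1)) * f (τ (σ 2) (σ 3)) =
      f (τ (σ 2) (σ 3)) * f (τ (σ 0) (σ 1)) := fun σ => by
    induction σ using Equiv.Perm.swap_induction_on with
    | one => exact (fd h F P).2
    | swap_mul σ a b hab ih =>
      have h1 : σ 0 ≠ σ 1 := σ.injective.ne (by decide)
      have h2 : σ 2 ≠ σ 3 := σ.injective.ne (by decide)
      have := conj_comm (g := ι (τ a b)) ih
      rw [← h.eqv _ _ (F.cl h1), ← h.eqv _ _ (F.cl h2), F.cj _ _ _ _ hab h1, F.cj _ _ _ _ hab h2] at this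
      exact this
  have com : ∀ i j k l, i ≠ j → k ≠ l → i ≠ k → i ≠ l → j ≠ k → j ≠ l →
      f (τ i j) * f (τ k l) = f (τ k l) * f (τ i j) := fun i j k l h1 h2 h3 h4 h5 h6 => by
    obtain ⟨σ, hσ⟩ := Equiv.Perm.exists_extending_pair (f := ![(0 : Fin 6), 1, 2, 3]) (g := ![i, j, k, l])
      (by decide) (by
        intro a b e
        fin_cases a <;> fin_cases b <;> simp_all)
    have := key σ
    rwa [show σ 0 = i from hσ 0, show σ 1 = j from hσ 1, show σ 2 = k from hσ 2,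
      show σ 3 = l from hσ 3] at this
  refine ⟨com, ?_⟩
  have e := P.add
  rw [(fd h F P).1, fx h F P, fdx h F P] at e
  rcases P.le with rfl | rfl
  · simpa using e
  · simp only [pow_one] at e
    have c : ∀ w, ι (z * d) * (f (τ 0 2) * (f (τ 1 3) * w)) =
        f (τ 0 2) * (f (τ 1 3) * (ι (z * d) * w)) := fun w => by
      have ez : ι (z * d) = ι (τ 4 5) * (ι (τ 0 1) * ι (τ 2 3)) := by
        rw [← map_mul, ← map_mul, F.ez, F.ed]
      rw [ez, mul_assoc, mul_assoc, F.mw h 2 3 0 2 0 3, F.mw h 2 3 1 3 1 2, F.mw h 0 1 0 3 1 3,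
        F.mw h 0 1 1 2 0 2, F.mw h 4 5 1 3 1 3, F.mw h 4 5 0 2 0 2, ← mul_assoc (f (τ 1 3)),
        com 1 3 0 2 (by decide) (by decide) (by decide) (by decide) (by decide) (by decide)]
      simp only [mul_assoc]
    have zx : z * x = x * z := D8.cm h.zz (h.sq F.clx) (h.sq F.r_clzx)
    have e2 : ι (z * d) * ι (z * x) = ι (z * (d * x)) * ι z := by
      rw [← map_mul, ← map_mul, zx]; congr 1; group
    simp only [mul_assoc] at e
    rw [c, e2] at e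
    refine mul_right_cancel (b := ι (z * (d * x)) * ι z) ?_
    simpa only [mul_assoc] using e

end Cfsg.Agent.M2R
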